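import Groth.Prelude.Def_CohCmp
import Groth.Agent.FlasqueAcyclic.Compare
import Groth.Agent.RPushQCoh.Qcoh

/-! # The comparison maps `H^p(f⁻¹V, F) → Γ(V, R^p f_* F)` -/

set_option backward.isDefEq.respectTransparency.types false
set_option autoImplicit false
set_option linter.style.haveILetI false

noncomputable section

universe u

open CategoryTheory CategoryTheory.Limits CategoryTheory.Abelian AlgebraicGeometry TopologicalSpace Opposite
  AlgebraicGeometry.Scheme.Modules

namespace Groth.Agent.SectCmpLib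

variable {X Y : Scheme.{u}}

/-- Sections lift locally along epimorphisms. -/
theorem exists_local_preimage {A B : Y.Modules} (p : A ⟶ B) [Epi p] (V : Y.Opens) (b : Γ(B, V)) {y : Y}
    (hy : y ∈ V) : ∃ (W : Y.Opens) (hWV : W ≤ V) (a : Γ(A, W)),
      y ∈ W ∧ p.app W a = B.presheaf.map (homOfLE hWV).op b := by
  have hsurj : Sheaf.IsLocallySurjective ((SheafOfModules.toSheaf Y.ringCatSheaf).map p) := by
    rw [Sheaf.isLocallySurjective_iff_epi']
    haveI : @Epi (SheafOfModules Y.ringCatSheaf) _ _ _ p := ‹Epi p›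
    exact @Functor.map_epi _ _ _ _ (SheafOfModules.toSheaf Y.ringCatSheaf) _ _ _ p this
  obtain ⟨W, i, ⟨a, ha⟩, hyW⟩ := hsurj.imageSieve_mem (U := V) b y hy
  exact ⟨W, leOfHom i, a, hyW, ha⟩

lemma shortExact_toAbOn (U : X.Opens) {S : ShortComplex X.Modules} (hS : S.ShortExact) :
    (S.map (CohCmp.toAbOn X U)).ShortExact := by
  haveI : (restrictFunctor U.ι).IsRightAdjoint := (CxOX.extZeroAdj U.ι).isRightAdjoint
  haveI : PreservesFiniteLimits (restrictFunctor U.ι) := inferInstance
  haveI : PreservesFiniteColimits (restrictFunctor U.ι) := inferInstance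
  exact (hS.map_of_exact (restrictFunctor U.ι)).map_of_exact (FlasqueAcyclic.toAbF (U : Scheme.{u}))

variable {f : X ⟶ Y} [HasInjectiveResolutions X.Modules]
  {Δ : RDer.DerivedLES (pushforward f)} (E : CohCmp.SectCmp f Δ)

lemma isIso_toRightDerivedZero (F : X.Modules) : IsIso ((pushforward f).toRightDerivedZero.app F) := by
  haveI : PreservesFiniteLimits (pushforward f) :=
    inferInstanceAs (PreservesFiniteLimits (Coh.push f))
  infer_instance

lemma ε_zero_bijective (V : Y.Opens) (F : X.Modules) : Function.Bijective (E.ε V F 0) := by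
  haveI := isIso_toRightDerivedZero (f := f) F
  haveI : IsIso (((pushforward f).toRightDerivedZero.app F).app V) :=
    (Scheme.Modules.Hom.isIso_iff_isIso_app (φ := (pushforward f).toRightDerivedZero.app F)).1 inferInstance V
  have h := ConcreteCategory.bijective_of_isIso (((pushforward f).toRightDerivedZero.app F).app V)
  have e : (⇑(E.ε V F 0) ∘ ⇑(CohPull.sectH0 F (f ⁻¹ᵁ V))) =
      ⇑(ConcreteCategory.hom (((pushforward f).toRightDerivedZero.app F).app V)) := funext (E.zero V F)
  exact (Function.Bijective.of_comp_iff (⇑(E.ε V F 0)) (CohPull.sectH0 F (f ⁻¹ᵁ V)).bijective).1 (e ▸ h)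

/-- The dimension shifting sequence. -/
def ishift [EnoughInjectives X.Modules] (F : X.Modules) : ShortComplex X.Modules :=
  ShortComplex.mk (Injective.ι F) (cokernel.π (Injective.ι F)) (cokernel.condition _)

lemma ishift_shortExact [EnoughInjectives X.Modules] (F : X.Modules) : (ishift F).ShortExact :=
  { exact := (ishift F).exact_of_g_is_cokernel (cokernelIsCokernel _)
    mono_f := inferInstanceAs (Mono (Injective.ι F))
    epi_g := inferInstanceAs (Epi (cokernel.π (Injective.ι F))) }

lemma epi_δ [EnoughInjectives X.Modules] (F : X.Modules) (p : ℕ) :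
    Epi (Δ.δ (ishift F) (ishift_shortExact F) p (p + 1) rfl) := by
  haveI : Injective (ishift F).X₂ := inferInstanceAs (Injective (Injective.under F))
  refine (ShortComplex.exact_iff_epi _ ?_).1 (Δ.exact₁ (ishift F) (ishift_shortExact F) p (p + 1) rfl)
  exact ((pushforward f).isZero_rightDerived_obj_injective_succ p (ishift F).X₂).eq_of_tgt _ _

theorem locally_surjective [EnoughInjectives X.Modules] : ∀ (p : ℕ) (F : X.Modules) (V : Y.Opens)
    (t : Γ((Coh.Rpush f p).obj F, V)) (y : Y), y ∈ V → ∃ (W : Y.Opens) (hWV : W ≤ V), y ∈ W ∧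
      ∃ x : Coh.HHon X F (f ⁻¹ᵁ W) p,
        E.ε W F p x = ((Coh.Rpush f p).obj F).presheaf.map (homOfLE hWV).op t := by
  intro p
  induction p with
  | zero =>
    intro F V t y hy
    obtain ⟨x, hx⟩ := (ε_zero_bijective E V F).2 t
    exact ⟨V, le_rfl, hy, x, hx.trans (by simp)⟩
  | succ p ih =>
    intro F V t y hy
    haveI := epi_δ (Δ := Δ) F p
    let d := Δ.δ (ishift F) (ishift_shortExact F) p (p + 1) rfl
    obtain ⟨W₁, hW₁, q, hy₁, hq⟩ := exists_local_preimage d V t hy
    obtain ⟨W, hW, hyW, x, hx⟩ := ih (ishift F).X₃ W₁ q y hy₁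
    refine ⟨W, hW.trans hW₁, hyW,
      CohCmp.extδ (shortExact_toAbOn (f ⁻¹ᵁ W) (ishift_shortExact F)) p x, ?_⟩
    refine (E.delta W (ishift F) (ishift_shortExact F) _ p x).trans ?_
    refine (congrArg (d.app W) hx).trans ?_
    refine (ConcreteCategory.congr_hom (d.mapPresheaf.naturality (homOfLE hW).op) q).trans ?_
    refine (congrArg (((Coh.Rpush f (p + 1)).obj F).presheaf.map (homOfLE hW).op) hq).trans ?_
    exact (ConcreteCategory.congr_hom (((Coh.Rpush f (p + 1)).obj F).presheaf.map_comp
      (homOfLE hW₁).op (homOfLE hW).op).symm t)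

end Groth.Agent.SectCmpLib
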