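import Groth.Agent.SectCmpLib.Basic

/-! # `CohPull.resLE` and connecting maps -/

set_option backward.isDefEq.respectTransparency.types false
set_option autoImplicit false
set_option linter.style.haveILetI false

noncomputable section

universe u

open CategoryTheory CategoryTheory.Limits CategoryTheory.Abelian AlgebraicGeometry TopologicalSpace Opposite
  AlgebraicGeometry.Scheme.Modules

namespace Groth.Agent.SectCmpLib

variable {X Y : Scheme.{u}}

lemma resMor_le {U U' : X.Opens} (h : U' ≤ U) : U' ≤ (𝟙 X : X ⟶ X) ⁻¹ᵁ U := by rwa [Scheme.Hom.id_preimage]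

/-- The restricted identity. -/
abbrev resMor {U U' : X.Opens} (h : U' ≤ U) : (U' : Scheme.{u}) ⟶ U :=
  (𝟙 X : X ⟶ X).resLE U U' (resMor_le h)

/-- `pullOnIso` followed by `pullbackId`, as a natural transformation. -/
def resNat {U U' : X.Opens} (h : U' ≤ U) :
    restrictFunctor U.ι ⋙ Scheme.Modules.pullback (resMor h) ⟶ restrictFunctor U'.ι :=
  Functor.whiskerRight (restrictFunctorIsoPullback U.ι).hom (Scheme.Modules.pullback (resMor h)) ≫
    (pullbackComp (resMor h) U.ι).hom ≫
    (pullbackCongr (Scheme.Hom.resLE_comp_ι (𝟙 X : X ⟶ X) (resMor_le h))).hom ≫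
    (pullbackComp U'.ι (𝟙 X)).inv ≫
    Functor.whiskerLeft (Scheme.Modules.pullback (𝟙 X)) (restrictFunctorIsoPullback U'.ι).inv ≫
    Functor.whiskerRight (pullbackId X).hom (restrictFunctor U'.ι) ≫ (Functor.leftUnitor _).hom

lemma resNat_app {U U' : X.Opens} (h : U' ≤ U) (F : X.Modules) :
    (resNat h).app F = (CohPull.pullOnIso (𝟙 X) U U' (resMor_le h) F).hom ≫
      (restrictFunctor U'.ι).map ((pullbackId X).hom.app F) := by
  simp only [resNat, CohPull.pullOnIso, NatTrans.comp_app, Functor.whiskerRight_app, Functor.whiskerLeft_app,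
    Functor.leftUnitor_hom_app, Category.comp_id, Iso.trans_hom, Category.assoc]
  rfl

lemma theta_naturality {S T : Scheme.{u}} (g : S ⟶ T) {M N : T.Modules} (ψ : M ⟶ N) :
    (CohPull.inv g.base).map ((SheafOfModules.toSheaf T.ringCatSheaf).map ψ) ≫ CohPull.theta g N =
      CohPull.theta g M ≫ (SheafOfModules.toSheaf S.ringCatSheaf).map ((Scheme.Modules.pullback g).map ψ) := by
  rw [CohPull.theta, CohPull.theta, ← Adjunction.homEquiv_naturality_left_symm,
    ← Adjunction.homEquiv_naturality_right_symm]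
  refine congrArg _ ?_
  have h := congrArg (fun t => (SheafOfModules.toSheaf T.ringCatSheaf).map t)
    ((pullbackPushforwardAdjunction g).unit.naturality ψ)
  exact ((SheafOfModules.toSheaf T.ringCatSheaf).map_comp _ _).symm.trans
    (h.trans ((SheafOfModules.toSheaf T.ringCatSheaf).map_comp _ _))

/-- The map of abelian sheaves underlying `CohPull.resLE`. -/
def resAb {U U' : X.Opens} (h : U' ≤ U) (F : X.Modules) :
    (CohPull.inv (resMor h).base).obj ((CohCmp.toAbOn X U).obj F) ⟶ (CohCmp.toAbOn X U').obj F :=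
  CohPull.theta (resMor h) (F.restrict U.ι) ≫
    (SheafOfModules.toSheaf (U' : Scheme.{u}).ringCatSheaf).map ((resNat h).app F)

lemma resAb_naturality {U U' : X.Opens} (h : U' ≤ U) {F G : X.Modules} (ψ : F ⟶ G) :
    (CohPull.inv (resMor h).base).map ((CohCmp.toAbOn X U).map ψ) ≫ resAb h G =
      resAb h F ≫ (CohCmp.toAbOn X U').map ψ := by
  have h1 := theta_naturality (resMor h) ((restrictFunctor U.ι).map ψ)
  have h2 := congrArg (fun t => (SheafOfModules.toSheaf (U' : Scheme.{u}).ringCatSheaf).map t)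
    ((resNat h).naturality ψ)
  have h2' := ((SheafOfModules.toSheaf (U' : Scheme.{u}).ringCatSheaf).map_comp _ _).symm.trans
    (h2.trans ((SheafOfModules.toSheaf (U' : Scheme.{u}).ringCatSheaf).map_comp _ _))
  unfold resAb
  refine ((Category.assoc _ _ _).symm.trans (congrArg (· ≫ _) h1)).trans ?_
  refine (Category.assoc _ _ _).trans ((congrArg (_ ≫ ·) h2').trans (Category.assoc _ _ _).symm)

lemma mapH_eq {Z : Scheme.{u}} {M N : Z.Modules} (ψ : M ⟶ N) (p : ℕ) (y : Coh.HH Z M p) :
    CohPull.mapH ψ p y = Ext.comp y (Ext.mk₀ ((SheafOfModules.toSheaf Z.ringCatSheaf).map ψ)) (add_zero p) := rfl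

lemma pullMod_eq {S T : Scheme.{u}} (g : S ⟶ T) (M : T.Modules) (p : ℕ) (y : Coh.HH T M p) :
    CohPull.pullMod g M p y = ((Ext.mk₀ (CohPull.oneTo g.base)).comp
      (Ext.mapExactFunctor (CohPull.inv g.base) y) (zero_add p)).comp (Ext.mk₀ (CohPull.theta g M)) (add_zero p) := rfl

lemma resLE_eq {U U' : X.Opens} (h : U' ≤ U) (F : X.Modules) (p : ℕ) (x : Coh.HHon X F U p) :
    CohPull.resLE F h p x = ((Ext.mk₀ (CohPull.oneTo (resMor h).base)).comp
      (x.mapExactFunctor (CohPull.inv (resMor h).base)) (zero_add p)).comp (Ext.mk₀ (resAb h F)) (add_zero p) := by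
  let T := SheafOfModules.toSheaf (U' : Scheme.{u}).ringCatSheaf
  let α := CohPull.theta (resMor h) (F.restrict U.ι)
  let β := T.map (CohPull.pullOnIso (𝟙 X) U U' (resMor_le h) F).hom
  let γ := T.map ((restrictFunctor U'.ι).map ((pullbackId X).hom.app F))
  have he : resAb h F = α ≫ β ≫ γ :=
    congrArg (α ≫ ·) ((congrArg (fun t => T.map t) (resNat_app h F)).trans (T.map_comp _ _))
  let z := (Ext.mk₀ (CohPull.oneTo (resMor h).base)).comp
    (x.mapExactFunctor (CohPull.inv (resMor h).base)) (zero_add p)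
  refine Eq.trans ?_ (congrArg (fun t => z.comp (Ext.mk₀ t) (add_zero p)) he).symm
  refine Eq.trans ?_ (congrArg (fun t => z.comp t (add_zero p)) (Ext.mk₀_comp_mk₀ α (β ≫ γ)))
  refine Eq.trans ?_ (Ext.comp_assoc_of_second_deg_zero z (Ext.mk₀ α) (Ext.mk₀ (β ≫ γ)) (add_zero p))
  refine Eq.trans ?_ (congrArg (fun t => (z.comp (Ext.mk₀ α) (add_zero p)).comp t (add_zero p))
    (Ext.mk₀_comp_mk₀ β γ))
  refine Eq.trans ?_ (Ext.comp_assoc_of_second_deg_zero (z.comp (Ext.mk₀ α) (add_zero p)) (Ext.mk₀ β)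
    (Ext.mk₀ γ) (add_zero p))
  refine (mapH_eq _ _ _).trans (congrArg (fun t => Ext.comp t (Ext.mk₀ γ) (add_zero p)) ?_)
  refine (mapH_eq _ _ _).trans (congrArg (fun t => Ext.comp t (Ext.mk₀ β) (add_zero p)) ?_)
  exact pullMod_eq _ _ p x

/-- `CohPull.resLE` commutes with connecting homomorphisms. -/
theorem resLE_extδ {U U' : X.Opens} (h : U' ≤ U) {S : ShortComplex X.Modules} (hS : S.ShortExact) (p : ℕ)
    (x : Coh.HHon X S.X₃ U p) :
    CohPull.resLE S.X₁ h (p + 1) (CohCmp.extδ (shortExact_toAbOn U hS) p x) =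
      CohCmp.extδ (shortExact_toAbOn U' hS) p (CohPull.resLE S.X₃ h p x) := by
  set L := CohPull.inv (resMor h).base
  let hT := shortExact_toAbOn U hS
  let φ : (S.map (CohCmp.toAbOn X U)).map L ⟶ S.map (CohCmp.toAbOn X U') :=
    { τ₁ := resAb h S.X₁, τ₂ := resAb h S.X₂, τ₃ := resAb h S.X₃
      comm₁₂ := (resAb_naturality h S.f).symm
      comm₂₃ := (resAb_naturality h S.g).symm }
  have hnat : (hT.map_of_exact L).extClass.comp (Ext.mk₀ (resAb h S.X₁)) (add_zero 1) =
      (Ext.mk₀ (resAb h S.X₃)).comp (shortExact_toAbOn U' hS).extClass (zero_add 1) :=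
    ShortComplex.ShortExact.extClass_naturality (hT.map_of_exact L) (shortExact_toAbOn U' hS) φ
  have h2 : (Ext.comp x hT.extClass (rfl : p + 1 = p + 1)).mapExactFunctor L =
      (x.mapExactFunctor L).comp (hT.map_of_exact L).extClass rfl :=
    (Ext.mapExactFunctor_comp L x hT.extClass rfl).trans
      (congrArg (fun e => (x.mapExactFunctor L).comp e rfl) (Ext.mapExactFunctor_extClass L hT))
  refine (resLE_eq h S.X₁ (p + 1) _).trans ?_
  refine (congrArg (fun e => ((Ext.mk₀ (CohPull.oneTo (resMor h).base)).comp e (zero_add (p + 1))).comp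
    (Ext.mk₀ (resAb h S.X₁)) (add_zero (p + 1))) h2).trans ?_
  refine (congrArg (fun e => Ext.comp e (Ext.mk₀ (resAb h S.X₁)) (add_zero (p + 1)))
    (Ext.comp_assoc (Ext.mk₀ (CohPull.oneTo (resMor h).base)) (x.mapExactFunctor L) (hT.map_of_exact L).extClass
      (zero_add p) (rfl : p + 1 = p + 1) (by omega)).symm).trans ?_
  refine (Ext.comp_assoc_of_third_deg_zero _ _ _ rfl).trans ?_
  refine (congrArg (fun e => ((Ext.mk₀ (CohPull.oneTo (resMor h).base)).comp (x.mapExactFunctor L)
    (zero_add p)).comp e rfl) hnat).trans ?_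
  refine (Ext.comp_assoc_of_second_deg_zero _ _ _ rfl).symm.trans ?_
  exact congrArg (fun e => Ext.comp e (shortExact_toAbOn U' hS).extClass rfl) (resLE_eq h S.X₃ p x).symm

/-- `CohPull.resLE` is natural in the module. -/
theorem resLE_natural {U U' : X.Opens} (h : U' ≤ U) {F G : X.Modules} (ψ : F ⟶ G) (p : ℕ)
    (x : Coh.HHon X F U p) :
    CohPull.resLE G h p (CohPull.mapH ((restrictFunctor U.ι).map ψ) p x) =
      CohPull.mapH ((restrictFunctor U'.ι).map ψ) p (CohPull.resLE F h p x) := by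
  set L := CohPull.inv (resMor h).base
  refine (resLE_eq h G p _).trans ?_
  rw [resLE_eq h F p x]
  have h1 : (Ext.comp x (Ext.mk₀ ((CohCmp.toAbOn X U).map ψ)) (add_zero p)).mapExactFunctor L =
      (x.mapExactFunctor L).comp (Ext.mk₀ (L.map ((CohCmp.toAbOn X U).map ψ))) (add_zero p) :=
    (Ext.mapExactFunctor_comp L x _ _).trans (congrArg (fun e => (x.mapExactFunctor L).comp e (add_zero p))
      (Ext.mapExactFunctor_mk₀ L _))
  refine (congrArg (fun e => ((Ext.mk₀ (CohPull.oneTo (resMor h).base)).comp e (zero_add p)).comp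
    (Ext.mk₀ (resAb h G)) (add_zero p)) h1).trans ?_
  rw [← Ext.comp_assoc_of_third_deg_zero, Ext.comp_assoc_of_second_deg_zero, Ext.mk₀_comp_mk₀,
    resAb_naturality h ψ, ← Ext.mk₀_comp_mk₀, ← Ext.comp_assoc_of_second_deg_zero]
  rfl

end Groth.Agent.SectCmpLib
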