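import Groth.Agent.SectCmpLib.Res
import Groth.Agent.SectCmpLib.ResExt

/-! # Local injectivity of the comparison maps -/

set_option backward.isDefEq.respectTransparency.types false
set_option autoImplicit false
set_option linter.style.haveILetI false

noncomputable section

universe u

open CategoryTheory CategoryTheory.Limits CategoryTheory.Abelian AlgebraicGeometry TopologicalSpace Opposite
  AlgebraicGeometry.Scheme.Modules Groth.Agent.QCohBase

namespace Groth.Agent.SectCmpLib

variable {X Y : Scheme.{u}} [EnoughInjectives X.Modules]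

lemma subsingleton_HHon_injective (I : X.Modules) (hI : Injective I) (U : X.Opens) (n : ℕ) :
    Subsingleton (Coh.HHon X I U (n + 1)) :=
  haveI := RPushQCoh.isFlasque_restrict U.ι I hI
  FlasqueAcyclic.subsingleton_H_of_isFlasque (Coh.toAb (I.restrict U.ι)) n

lemma extδ_surjective (F : X.Modules) (U : X.Opens) (p : ℕ) :
    Function.Surjective (CohCmp.extδ (shortExact_toAbOn U (ishift_shortExact F)) p) := fun x => by
  haveI := subsingleton_HHon_injective (ishift F).X₂ (inferInstanceAs (Injective (Injective.under F))) U p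
  obtain ⟨y, hy⟩ := Ext.covariant_sequence_exact₁ (CohTop.const (U : Scheme.{u}) (ULift.{u} ℤ))
    (shortExact_toAbOn U (ishift_shortExact F)) x (Subsingleton.elim (α := Coh.HHon X (ishift F).X₂ U (p + 1)) _ _) rfl
  exact ⟨y, hy⟩

theorem resLE_trans : ∀ (p : ℕ) (F : X.Modules) {U U' U'' : X.Opens} (h : U' ≤ U) (h' : U'' ≤ U')
    (x : Coh.HHon X F U p),
    CohPull.resLE F h' p (CohPull.resLE F h p x) = CohPull.resLE F (h'.trans h) p x := by
  intro p
  induction p with
  | zero =>
    intro F U U' U'' h h' x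
    obtain ⟨s, rfl⟩ := (CohPull.sectH0 F U).surjective x
    rw [resLE_sectH0, resLE_sectH0, resLE_sectH0, mres_mres]
  | succ p ih =>
    intro F U U' U'' h h' x
    obtain ⟨y, rfl⟩ := extδ_surjective F U p x
    refine (congrArg _ (resLE_extδ h (ishift_shortExact F) p y)).trans ?_
    refine (resLE_extδ h' (ishift_shortExact F) p _).trans ?_
    refine (congrArg _ (ih _ h h' y)).trans ?_
    exact (resLE_extδ (h'.trans h) (ishift_shortExact F) p y).symm

variable {f : X ⟶ Y} [HasInjectiveResolutions X.Modules]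
  {Δ : RDer.DerivedLES (pushforward f)} (E : CohCmp.SectCmp f Δ)

/-- The comparison maps commute with restriction. -/
theorem ε_resLE : ∀ (p : ℕ) (F : X.Modules) {V W : Y.Opens} (h : W ≤ V) (x : Coh.HHon X F (f ⁻¹ᵁ V) p),
    E.ε W F p (CohPull.resLE F (f.preimage_mono h) p x) = mres ((Coh.Rpush f p).obj F) h (E.ε V F p x) := by
  intro p
  induction p with
  | zero =>
    intro F V W h x
    obtain ⟨s, rfl⟩ := (CohPull.sectH0 F (f ⁻¹ᵁ V)).surjective x
    refine (congrArg (E.ε W F 0) (resLE_sectH0 F (f.preimage_mono h) s)).trans ?_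
    refine (E.zero W F _).trans ?_
    refine Eq.trans ?_ (congrArg (mres ((Coh.Rpush f 0).obj F) h) (E.zero V F s)).symm
    exact app_mres' ((pushforward f).toRightDerivedZero.app F) h s
  | succ p ih =>
    intro F V W h x
    obtain ⟨y, rfl⟩ := extδ_surjective F (f ⁻¹ᵁ V) p x
    refine (congrArg (E.ε W F (p + 1)) (resLE_extδ (f.preimage_mono h) (ishift_shortExact F) p y)).trans ?_
    refine (E.delta W (ishift F) (ishift_shortExact F) _ p _).trans ?_
    refine (congrArg _ (ih _ h y)).trans ?_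
    refine (app_mres' _ h _).trans ?_
    exact congrArg (mres ((Coh.Rpush f (p + 1)).obj F) h)
      (E.delta V (ishift F) (ishift_shortExact F) _ p y).symm

theorem locally_zero : ∀ (p : ℕ) (F : X.Modules) (V : Y.Opens) (x : Coh.HHon X F (f ⁻¹ᵁ V) p),
    E.ε V F p x = 0 → ∀ y : Y, y ∈ V → ∃ (W : Y.Opens) (hWV : W ≤ V), y ∈ W ∧
      CohPull.resLE F (f.preimage_mono hWV) p x = 0 := by
  intro p
  induction p with
  | zero =>
    intro F V x hx y hy
    refine ⟨V, le_rfl, hy, ?_⟩
    rw [(ε_zero_bijective E V F).1 (hx.trans (map_zero _).symm), map_zero]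
  | succ p ih =>
    intro F V x hx y hy
    obtain ⟨a, rfl⟩ := extδ_surjective F (f ⁻¹ᵁ V) p x
    let S := ishift F
    have hS : S.ShortExact := ishift_shortExact F
    let g := (Coh.Rpush f p).map S.g
    let d := Δ.δ S hS p (p + 1) rfl
    have hd : d.app V (E.ε V S.X₃ p a) = 0 :=
      (E.delta V S hS (shortExact_toAbOn _ hS) p a).symm.trans hx
    haveI : Epi (kernel.lift d g (Δ.comp_δ S hS p (p + 1) rfl)) :=
      (Δ.exact₃ S hS p (p + 1) rfl).epi_kernelLift
    obtain ⟨k, hk⟩ := sections_exact_left (T := ShortComplex.mk (kernel.ι d) d (kernel.condition d))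
      (ShortComplex.exact_of_f_is_kernel _ (kernelIsKernel d)) _ hd
    obtain ⟨W₁, hW₁, r, hy₁, hr⟩ := exists_local_preimage (kernel.lift d g (Δ.comp_δ S hS p (p + 1) rfl)) V k hy
    have hgr : g.app W₁ r = mres _ hW₁ (E.ε V S.X₃ p a) := by
      have h1 := congrArg ((kernel.ι d).app W₁) hr
      refine Eq.trans ?_ (h1.trans ((app_mres' (kernel.ι d) hW₁ k).trans (congrArg (mres _ hW₁) hk)))
      exact (ConcreteCategory.congr_hom (congrArg (fun t => Hom.app t W₁) (kernel.lift_ι d g
        (Δ.comp_δ S hS p (p + 1) rfl))) r).symm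
    obtain ⟨W₂, hW₂, hy₂, z, hz⟩ := locally_surjective E p S.X₂ W₁ r y hy₁
    let a₂ := CohPull.resLE S.X₃ (f.preimage_mono (hW₂.trans hW₁)) p a
    let gz := CohPull.mapH ((restrictFunctor (f ⁻¹ᵁ W₂).ι).map S.g) p z
    have h0 : E.ε W₂ S.X₃ p (a₂ - gz) = 0 := by
      rw [map_sub, sub_eq_zero]
      refine (ε_resLE E p S.X₃ (hW₂.trans hW₁) a).trans ?_
      refine Eq.trans ?_ (E.natural W₂ S.g p z).symm
      refine ((mres_mres _ hW₁ hW₂ _).symm.trans ?_)
      refine (congrArg (mres _ hW₂) hgr.symm).trans ?_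
      exact (app_mres' g hW₂ r).symm.trans (congrArg (g.app W₂) hz.symm)
    obtain ⟨W₃, hW₃, hy₃, h3⟩ := ih S.X₃ W₂ (a₂ - gz) h0 y hy₂
    refine ⟨W₃, hW₃.trans (hW₂.trans hW₁), hy₃, ?_⟩
    rw [map_sub, sub_eq_zero] at h3
    refine (resLE_extδ (f.preimage_mono (hW₃.trans (hW₂.trans hW₁))) hS p a).trans ?_
    have h4 : CohPull.resLE S.X₃ (f.preimage_mono (hW₃.trans (hW₂.trans hW₁))) p a =
        CohPull.mapH ((restrictFunctor (f ⁻¹ᵁ W₃).ι).map S.g) p
          (CohPull.resLE S.X₂ (f.preimage_mono hW₃) p z) := by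
      refine (resLE_trans p S.X₃ (f.preimage_mono (hW₂.trans hW₁)) (f.preimage_mono hW₃) a).symm.trans ?_
      exact h3.trans (resLE_natural (f.preimage_mono hW₃) S.g p z)
    refine (congrArg _ h4).trans ?_
    let hT := shortExact_toAbOn (f ⁻¹ᵁ W₃) hS
    let w : Coh.HHon X S.X₂ (f ⁻¹ᵁ W₃) p := CohPull.resLE S.X₂ (f.preimage_mono hW₃) p z
    show Ext.comp (Ext.comp w (Ext.mk₀ (S.map (CohCmp.toAbOn X (f ⁻¹ᵁ W₃))).g) (add_zero p)) hT.extClass rfl = 0
    refine (Ext.comp_assoc_of_second_deg_zero _ _ _ _).trans ?_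
    exact (congrArg (fun t => Ext.comp w t rfl) hT.comp_extClass).trans (Ext.comp_zero _ _ _ _ _)

end Groth.Agent.SectCmpLib
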