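import Groth.Agent.SectCmpLib.LocInj
import Groth.Agent.SerreAff.Basic
import Groth.Agent.QCohBase.Exact

/-! # The comparison maps over an affine base -/

set_option backward.isDefEq.respectTransparency.types false
set_option autoImplicit false
set_option linter.style.haveILetI false

noncomputable section

universe u

open CategoryTheory CategoryTheory.Limits CategoryTheory.Abelian AlgebraicGeometry TopologicalSpace Opposite
  AlgebraicGeometry.Scheme.Modules Groth.Agent.QCohBase

namespace Groth.Agent.SectCmpLib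

variable {Y : Scheme.{u}}

/-- No cohomology in positive degrees. -/
def Acyc (M : Y.Modules) : Prop := ∀ n : ℕ, Subsingleton (Coh.HH Y M (n + 1))

lemma subsingleton_third {T : ShortComplex Y.Modules} (hT : T.ShortExact) (n : ℕ)
    (h₂ : Subsingleton (Coh.HH Y T.X₂ n)) (h₁ : Subsingleton (Coh.HH Y T.X₁ (n + 1))) :
    Subsingleton (Coh.HH Y T.X₃ n) := by
  refine ⟨fun a b => ?_⟩
  have hA := hT.map_of_exact (FlasqueAcyclic.toAbF Y)
  have key : ∀ c : Coh.HH Y T.X₃ n, c = 0 := fun c => by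
    obtain ⟨w, hw⟩ := Ext.covariant_sequence_exact₃ (CohTop.const Y (ULift.{u} ℤ)) hA c rfl
      (@Subsingleton.elim _ h₁ _ _)
    exact hw.symm.trans ((congrArg (fun t => Ext.comp t _ (add_zero n))
      (@Subsingleton.elim _ h₂ w 0)).trans (Ext.zero_comp _ _ _ _ _))
  rw [key a, key b]

lemma subsingleton_second {T : ShortComplex Y.Modules} (hT : T.ShortExact) (n : ℕ)
    (h₁ : Subsingleton (Coh.HH Y T.X₁ n)) (h₃ : Subsingleton (Coh.HH Y T.X₃ n)) :
    Subsingleton (Coh.HH Y T.X₂ n) := by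
  refine ⟨fun a b => ?_⟩
  have hA := hT.map_of_exact (FlasqueAcyclic.toAbF Y)
  have key : ∀ c : Coh.HH Y T.X₂ n, c = 0 := fun c => by
    obtain ⟨w, hw⟩ := Ext.covariant_sequence_exact₂ (CohTop.const Y (ULift.{u} ℤ)) hA c
      (@Subsingleton.elim _ h₃ _ _)
    exact hw.symm.trans ((congrArg (fun t => Ext.comp t _ (add_zero n))
      (@Subsingleton.elim _ h₁ w 0)).trans (Ext.zero_comp _ _ _ _ _))
  rw [key a, key b]

lemma acyc_of_iso {M N : Y.Modules} (e : M ≅ N) (h : Acyc M) : Acyc N := fun n =>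
  @Equiv.subsingleton _ _
    ((((Sheaf.functorH _ (n + 1)).mapIso ((SheafOfModules.toSheaf _).mapIso e)).addCommGroupIsoToAddEquiv).symm).toEquiv
    (h n)

variable {X : Scheme.{u}} [EnoughInjectives X.Modules] {f : X ⟶ Y} [HasInjectiveResolutions X.Modules]
  {Δ : RDer.DerivedLES (pushforward f)} (E : CohCmp.SectCmp f Δ)

lemma acyc_zero_injective (I : X.Modules) (hI : Injective I) : Acyc ((Coh.Rpush f 0).obj I) := by
  haveI := isIso_toRightDerivedZero (f := f) I
  refine acyc_of_iso (asIso ((pushforward f).toRightDerivedZero.app I)) fun n => ?_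
  haveI := @FlasqueAcyclic.isFlasque_toAb X I hI
  haveI : TopCat.Sheaf.IsFlasque (X := Y.toTopCat) (Coh.toAb ((pushforward f).obj I)) :=
    inferInstanceAs (TopCat.Sheaf.IsFlasque ((TopCat.Sheaf.pushforward AddCommGrpCat f.base).obj (Coh.toAb I)))
  exact FlasqueAcyclic.subsingleton_H_of_isFlasque _ n

/-- The two short exact sequences in degree zero. -/
def lowSeq₁ (F : X.Modules) : ShortComplex Y.Modules :=
  ShortComplex.mk ((Coh.Rpush f 0).map (ishift F).f)
    (kernel.lift (Δ.δ (ishift F) (ishift_shortExact F) 0 1 rfl) ((Coh.Rpush f 0).map (ishift F).g)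
      (Δ.comp_δ (ishift F) (ishift_shortExact F) 0 1 rfl)) (by
    rw [← cancel_mono (kernel.ι (Δ.δ (ishift F) (ishift_shortExact F) 0 1 rfl)), Category.assoc, kernel.lift_ι,
      zero_comp, ← Functor.map_comp, (ishift F).zero, Functor.map_zero])

lemma lowSeq₁_shortExact (F : X.Modules) : (lowSeq₁ (Δ := Δ) F).ShortExact := by
  haveI : PreservesFiniteLimits (pushforward f) := inferInstanceAs (PreservesFiniteLimits (Coh.push f))
  haveI : PreservesFiniteLimits ((pushforward f).rightDerived 0) :=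
    preservesFiniteLimits_of_natIso (pushforward f).rightDerivedZeroIsoSelf.symm
  haveI : Mono (ishift F).f := (ishift_shortExact F).mono_f
  haveI : PreservesLimitsOfShape WalkingCospan ((pushforward f).rightDerived 0) := inferInstance
  haveI : Mono (((pushforward f).rightDerived 0).map (ishift F).f) := inferInstance
  haveI : Mono (lowSeq₁ (Δ := Δ) F).f := this
  haveI : Epi (lowSeq₁ (Δ := Δ) F).g := (Δ.exact₃ (ishift F) (ishift_shortExact F) 0 1 rfl).epi_kernelLift
  refine ShortComplex.ShortExact.mk ?_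
  let φ : lowSeq₁ (Δ := Δ) F ⟶ ShortComplex.mk ((Coh.Rpush f 0).map (ishift F).f) ((Coh.Rpush f 0).map (ishift F).g)
      (by rw [← Functor.map_comp, (ishift F).zero, Functor.map_zero]) :=
    { τ₁ := 𝟙 _, τ₂ := 𝟙 _, τ₃ := kernel.ι (Δ.δ (ishift F) (ishift_shortExact F) 0 1 rfl)
      comm₁₂ := by simp [lowSeq₁]
      comm₂₃ := by simp [lowSeq₁] }
  haveI : Epi φ.τ₁ := inferInstanceAs (Epi (𝟙 _))
  haveI : IsIso φ.τ₂ := inferInstanceAs (IsIso (𝟙 _))
  haveI : Mono φ.τ₃ := inferInstanceAs (Mono (kernel.ι _))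
  refine (ShortComplex.exact_iff_of_epi_of_isIso_of_mono φ).2 ?_
  exact Δ.exact₂ (ishift F) (ishift_shortExact F) 0

def lowSeq₂ (F : X.Modules) : ShortComplex Y.Modules :=
  ShortComplex.mk (kernel.ι (Δ.δ (ishift F) (ishift_shortExact F) 0 1 rfl))
    (Δ.δ (ishift F) (ishift_shortExact F) 0 1 rfl) (kernel.condition _)

lemma lowSeq₂_shortExact (F : X.Modules) : (lowSeq₂ (Δ := Δ) F).ShortExact := by
  haveI : Mono (lowSeq₂ (Δ := Δ) F).f := inferInstanceAs (Mono (kernel.ι _))
  haveI : Epi (lowSeq₂ (Δ := Δ) F).g := epi_δ F 0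
  exact ShortComplex.ShortExact.mk (ShortComplex.exact_of_f_is_kernel _ (kernelIsKernel _))

lemma acyc_K (F : X.Modules) (h : Acyc ((Coh.Rpush f 0).obj F)) : Acyc (lowSeq₂ (Δ := Δ) F).X₁ := fun n =>
  subsingleton_third (lowSeq₁_shortExact (Δ := Δ) F) (n + 1)
    (acyc_zero_injective (ishift F).X₂ (inferInstanceAs (Injective (Injective.under F))) n) (h (n + 1))

lemma isIso_δ_succ (F : X.Modules) (j : ℕ) :
    IsIso (Δ.δ (ishift F) (ishift_shortExact F) (j + 1) (j + 2) rfl) := by
  haveI := epi_δ (Δ := Δ) F (j + 1)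
  haveI : Injective (ishift F).X₂ := inferInstanceAs (Injective (Injective.under F))
  haveI : Mono (Δ.δ (ishift F) (ishift_shortExact F) (j + 1) (j + 2) rfl) :=
    (ShortComplex.exact_iff_mono _
      (((pushforward f).isZero_rightDerived_obj_injective_succ j (ishift F).X₂).eq_of_src _ _)).1
      (Δ.exact₃ (ishift F) (ishift_shortExact F) (j + 1) (j + 2) rfl)
  exact isIso_of_mono_of_epi _

include Δ in
lemma acyc_shift (F : X.Modules) (h : ∀ j, Acyc ((Coh.Rpush f j).obj F)) :
    ∀ j, Acyc ((Coh.Rpush f j).obj (ishift F).X₃) := by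
  intro j
  cases j with
  | zero =>
    exact fun n => subsingleton_second (lowSeq₂_shortExact (Δ := Δ) F) (n + 1) (acyc_K (Δ := Δ) F (h 0) n) (h 1 n)
  | succ j =>
    haveI := isIso_δ_succ (Δ := Δ) F j
    exact acyc_of_iso (asIso (Δ.δ (ishift F) (ishift_shortExact F) (j + 1) (j + 2) rfl)).symm (h (j + 2))

theorem ε_top_bijective : ∀ (p : ℕ) (F : X.Modules), (∀ j, Acyc ((Coh.Rpush f j).obj F)) →
    Function.Bijective (E.ε ⊤ F p) := by
  intro p
  induction p with
  | zero => exact fun F _ => ε_zero_bijective E ⊤ F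
  | succ p ih =>
    intro F hF
    let S := ishift F
    have hS : S.ShortExact := ishift_shortExact F
    let d := Δ.δ S hS p (p + 1) rfl
    let g := (Coh.Rpush f p).map S.g
    have hQ := ih S.X₃ (acyc_shift (Δ := Δ) F hF)
    have hdsurj : Function.Surjective (d.app ⊤) := by
      cases p with
      | zero => exact SerreAff.sections_surjective_of_H1 (lowSeq₂_shortExact (Δ := Δ) F) (acyc_K (Δ := Δ) F (hF 0) 0)
      | succ j =>
        haveI := isIso_δ_succ (Δ := Δ) F j
        haveI : IsIso (d.app ⊤) := (Scheme.Modules.Hom.isIso_iff_isIso_app (φ := d)).1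
          (inferInstanceAs (IsIso (Δ.δ (ishift F) (ishift_shortExact F) (j + 1) (j + 2) rfl))) ⊤
        exact (ConcreteCategory.bijective_of_isIso (d.app ⊤)).2
    have hrange : ∀ t, d.app ⊤ t = 0 → ∃ w, g.app ⊤ w = t := by
      intro t ht
      cases p with
      | zero =>
        haveI := (lowSeq₂_shortExact (Δ := Δ) F).mono_f
        obtain ⟨k, hk⟩ := sections_exact_left (T := lowSeq₂ (Δ := Δ) F)
          (lowSeq₂_shortExact (Δ := Δ) F).exact t ht
        obtain ⟨w, hw⟩ := SerreAff.sections_surjective_of_H1 (lowSeq₁_shortExact (Δ := Δ) F) (hF 0 0) k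
        refine ⟨w, ?_⟩
        rw [← hk, ← hw]
        exact (ConcreteCategory.congr_hom (congrArg (fun u => Hom.app u ⊤)
          (kernel.lift_ι d g (Δ.comp_δ S hS 0 1 rfl))) w).symm
      | succ j =>
        haveI := isIso_δ_succ (Δ := Δ) F j
        haveI : IsIso (d.app ⊤) := (Scheme.Modules.Hom.isIso_iff_isIso_app (φ := d)).1
          (inferInstanceAs (IsIso (Δ.δ (ishift F) (ishift_shortExact F) (j + 1) (j + 2) rfl))) ⊤
        exact ⟨0, by rw [map_zero, (ConcreteCategory.bijective_of_isIso (d.app ⊤)).1 (ht.trans (map_zero _).symm)]⟩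
    have hI : Function.Surjective (E.ε ⊤ S.X₂ p) := by
      cases p with
      | zero => exact (ε_zero_bijective E ⊤ _).2
      | succ j =>
        intro t
        haveI : Injective S.X₂ := inferInstanceAs (Injective (Injective.under F))
        refine ⟨0, (map_zero _).trans ?_⟩
        have hz := (pushforward f).isZero_rightDerived_obj_injective_succ j S.X₂
        have h1 := ConcreteCategory.congr_hom (congrArg (fun u => Hom.app u ⊤) (hz.eq_of_src (𝟙 _) 0)) t
        exact h1.symm
    refine ⟨fun a b hab => ?_, fun t => ?_⟩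
    · suffices key : ∀ c, E.ε ⊤ F (p + 1) c = 0 → c = 0 by
        exact sub_eq_zero.1 (key (a - b) (by rw [map_sub, hab, sub_self]))
      intro c hc
      obtain ⟨y, rfl⟩ := extδ_surjective F (f ⁻¹ᵁ ⊤) p c
      obtain ⟨w, hw⟩ := hrange _ ((E.delta ⊤ S hS (shortExact_toAbOn _ hS) p y).symm.trans hc)
      obtain ⟨z, rfl⟩ := hI w
      have hy : y = CohPull.mapH ((restrictFunctor (f ⁻¹ᵁ ⊤).ι).map S.g) p z :=
        hQ.1 (hw.symm.trans (E.natural ⊤ S.g p z).symm)
      refine (congrArg (CohCmp.extδ (shortExact_toAbOn (f ⁻¹ᵁ ⊤) hS) p) hy).trans ?_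
      let hT := shortExact_toAbOn (f ⁻¹ᵁ ⊤) hS
      show Ext.comp (Ext.comp z (Ext.mk₀ (S.map (CohCmp.toAbOn X (f ⁻¹ᵁ ⊤))).g) (add_zero p)) hT.extClass rfl = 0
      refine (Ext.comp_assoc_of_second_deg_zero _ _ _ _).trans ?_
      exact (congrArg (fun u => Ext.comp z u rfl) hT.comp_extClass).trans (Ext.comp_zero _ _ _ _ _)
    · obtain ⟨q, rfl⟩ := hdsurj t
      obtain ⟨y, rfl⟩ := hQ.2 q
      exact ⟨CohCmp.extδ (shortExact_toAbOn (f ⁻¹ᵁ ⊤) hS) p y, E.delta ⊤ S hS _ p y⟩

theorem acyc_Rpush [QuasiCompact f] [QuasiSeparated f] [IsAffine Y] (F : X.Modules) [Coh.IsQCoh F] (j : ℕ) :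
    Acyc ((Coh.Rpush f j).obj F) := fun n => by
  haveI : Coh.IsQCoh ((Coh.Rpush f j).obj F) := RPushQCoh.isQCoh_Rpush f F ‹_› j
  exact subsingleton_HH_of_isAffine _ n.succ_pos

end Groth.Agent.SectCmpLib
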