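import Groth.Agent.SectCmpLib.Basic
import Groth.Agent.QCohBase.Criteria

/-! # `CohPull.resLE` on sections and connecting maps -/

set_option backward.isDefEq.respectTransparency.types false
set_option autoImplicit false
set_option linter.style.haveILetI false

noncomputable section

universe u

open CategoryTheory CategoryTheory.Limits CategoryTheory.Abelian AlgebraicGeometry TopologicalSpace Opposite
  AlgebraicGeometry.Scheme.Modules Groth.Agent.QCohBase

namespace Groth.Agent.SectCmpLib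

variable {X Y Z : Scheme.{u}}

/-- Pullback of a section along a morphism. -/
def pullS (φ : X ⟶ Y) (M : Y.Modules) (V : Y.Opens) (O : X.Opens) (h : O ≤ φ ⁻¹ᵁ V) (s : Γ(M, V)) :
    Γ((Scheme.Modules.pullback φ).obj M, O) :=
  mres ((Scheme.Modules.pullback φ).obj M) h
    (((pullbackPushforwardAdjunction φ).unit.app M).app V s)

lemma app_mres' {M N : X.Modules} (ψ : M ⟶ N) {V W : X.Opens} (h : W ≤ V) (s : Γ(M, V)) :
    ψ.app W (mres M h s) = mres N h (ψ.app V s) :=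
  ConcreteCategory.congr_hom (ψ.mapPresheaf.naturality (homOfLE h).op) s

lemma pullS_map (φ : X ⟶ Y) {M N : Y.Modules} (ψ : M ⟶ N) (V : Y.Opens) (O : X.Opens) (h : O ≤ φ ⁻¹ᵁ V)
    (s : Γ(M, V)) :
    ((Scheme.Modules.pullback φ).map ψ).app O (pullS φ M V O h s) = pullS φ N V O h (ψ.app V s) := by
  refine (app_mres' _ _ _).trans (congrArg (mres _ h) ?_)
  exact (ConcreteCategory.congr_hom (congrArg (fun t => Hom.app t V)
    ((pullbackPushforwardAdjunction φ).unit.naturality ψ)) s).symm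

lemma pullS_comp (φ : X ⟶ Y) (ψ : Y ⟶ Z) (M : Z.Modules) (V : Z.Opens) (O : Y.Opens) (hO : O ≤ ψ ⁻¹ᵁ V)
    (O' : X.Opens) (hO' : O' ≤ φ ⁻¹ᵁ O) (s : Γ(M, V)) :
    ((pullbackComp φ ψ).hom.app M).app O'
        (pullS φ ((Scheme.Modules.pullback ψ).obj M) O O' hO' (pullS ψ M V O hO s)) =
      pullS (φ ≫ ψ) M V O' (hO'.trans (φ.preimage_mono hO)) s := by
  have hu := unit_conjugateEquiv ((pullbackPushforwardAdjunction ψ).comp (pullbackPushforwardAdjunction φ))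
      (pullbackPushforwardAdjunction (φ ≫ ψ)) (pullbackComp φ ψ).inv M
  rw [conjugateEquiv_pullbackComp_inv, Adjunction.comp_unit_app] at hu
  have h1 := ConcreteCategory.congr_hom (congrArg (fun t => Hom.app t V) hu) s
  have h2 : ((pullbackComp φ ψ).inv.app M).app (φ ⁻¹ᵁ ψ ⁻¹ᵁ V)
      (((pullbackPushforwardAdjunction (φ ≫ ψ)).unit.app M).app V s) =
      ((pullbackPushforwardAdjunction φ).unit.app _).app (ψ ⁻¹ᵁ V)
        (((pullbackPushforwardAdjunction ψ).unit.app M).app V s) := h1.symm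
  have h3 : ((pullbackComp φ ψ).hom.app M).app (φ ⁻¹ᵁ ψ ⁻¹ᵁ V)
      (((pullbackPushforwardAdjunction φ).unit.app _).app (ψ ⁻¹ᵁ V)
        (((pullbackPushforwardAdjunction ψ).unit.app M).app V s)) =
      ((pullbackPushforwardAdjunction (φ ≫ ψ)).unit.app M).app V s := by
    rw [← h2]
    exact ConcreteCategory.congr_hom (congrArg (fun t => Hom.app t (φ ⁻¹ᵁ ψ ⁻¹ᵁ V))
      ((pullbackComp φ ψ).inv_hom_id_app M)) _
  let y : Γ((Scheme.Modules.pullback ψ).obj M, ψ ⁻¹ᵁ V) :=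
    ((pullbackPushforwardAdjunction ψ).unit.app M).app V s
  let η := (pullbackPushforwardAdjunction φ).unit.app ((Scheme.Modules.pullback ψ).obj M)
  have h4 : η.app O (mres _ hO y) = mres ((Scheme.Modules.pullback φ).obj ((Scheme.Modules.pullback ψ).obj M))
      (φ.preimage_mono hO) (η.app (ψ ⁻¹ᵁ V) y) := app_mres' η hO y
  have h5 : pullS φ ((Scheme.Modules.pullback ψ).obj M) O O' hO' (pullS ψ M V O hO s) =
      mres ((Scheme.Modules.pullback φ).obj ((Scheme.Modules.pullback ψ).obj M))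
        (hO'.trans (φ.preimage_mono hO)) (η.app (ψ ⁻¹ᵁ V) y) :=
    (congrArg (mres _ hO') h4).trans (mres_mres _ _ _ _)
  refine (congrArg _ h5).trans ((app_mres' _ _ _).trans ?_)
  exact congrArg (mres _ (hO'.trans (φ.preimage_mono hO))) h3

lemma pullS_congr {φ ψ : X ⟶ Y} (e : φ = ψ) (M : Y.Modules) (V : Y.Opens) (O : X.Opens)
    (h : O ≤ φ ⁻¹ᵁ V) (h' : O ≤ ψ ⁻¹ᵁ V) (s : Γ(M, V)) :
    ((pullbackCongr e).hom.app M).app O (pullS φ M V O h s) = pullS ψ M V O h' s := by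
  subst e
  rfl

lemma pullS_restrictIso (j : X ⟶ Y) [IsOpenImmersion j] (M : Y.Modules) (V : Y.Opens) (O : X.Opens)
    (h : O ≤ j ⁻¹ᵁ V) (s : Γ(M, V)) :
    ((restrictFunctorIsoPullback j).hom.app M).app O
        (mres M ((j.image_mono h).trans (j.image_preimage_le V)) s) = pullS j M V O h s := by
  have hu := Adjunction.unit_leftAdjointUniq_hom_app (restrictAdjunction j) (pullbackPushforwardAdjunction j) M
  have h1 := ConcreteCategory.congr_hom (congrArg (fun t => Hom.app t V) hu) s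
  let iso : (restrictFunctor j).obj M ⟶ (Scheme.Modules.pullback j).obj M :=
    (restrictFunctorIsoPullback j).hom.app M
  let t : Γ((restrictFunctor j).obj M, j ⁻¹ᵁ V) := mres M (j.image_preimage_le V) s
  have h2 : iso.app (j ⁻¹ᵁ V) t = ((pullbackPushforwardAdjunction j).unit.app M).app V s := h1
  have h3 : mres ((restrictFunctor j).obj M) h t = mres M ((j.image_mono h).trans (j.image_preimage_le V)) s :=
    mres_mres M (j.image_preimage_le V) (j.image_mono h) s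
  exact (congrArg (iso.app O) h3.symm).trans ((app_mres' iso h t).trans (congrArg (mres _ h) h2))

lemma pullS_id (M : X.Modules) (V : X.Opens) (O : X.Opens) (h : O ≤ V) (s : Γ(M, V)) :
    ((pullbackId X).hom.app M).app O (pullS (𝟙 X) M V O h s) = mres M h s := by
  have hu := unit_conjugateEquiv Adjunction.id (pullbackPushforwardAdjunction (𝟙 X)) (pullbackId X).hom M
  rw [conjugateEquiv_pullbackId_hom] at hu
  have h1 := ConcreteCategory.congr_hom (congrArg (fun t => Hom.app t V) hu) s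
  refine (app_mres' _ h _).trans (congrArg (mres M h) ?_)
  exact h1.symm

lemma equiv₀_sectH0 (F : X.Modules) (U : X.Opens) (s : Γ(F, U)) :
    Sheaf.H.equiv₀ (Coh.toAb (F.restrict U.ι)) (isTerminalTop : IsTerminal (⊤ : U.toScheme.Opens))
        (CohPull.sectH0 F U s) = mres F U.ι_image_top.le s :=
  (AddEquiv.apply_symm_apply _ _)

lemma equiv₀_mapH {M N : X.Modules} (ψ : M ⟶ N) (x : Coh.HH X M 0) :
    Sheaf.H.equiv₀ (Coh.toAb N) (isTerminalTop : IsTerminal (⊤ : X.Opens)) (CohPull.mapH ψ 0 x) =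
      ψ.app ⊤ (Sheaf.H.equiv₀ (Coh.toAb M) (isTerminalTop : IsTerminal (⊤ : X.Opens)) x) :=
  (Sheaf.H.equiv₀_naturality _ _ _).symm

set_option maxHeartbeats 1200000 in
/-- Restriction of classes of sections is restriction of sections. -/
theorem resLE_sectH0 (F : X.Modules) {U U' : X.Opens} (h : U' ≤ U) (s : Γ(F, U)) :
    CohPull.resLE F h 0 (CohPull.sectH0 F U s) = CohPull.sectH0 F U' (mres F h s) := by
  refine (Sheaf.H.equiv₀ (Coh.toAb (F.restrict U'.ι))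
    (isTerminalTop : IsTerminal (⊤ : U'.toScheme.Opens))).injective ?_
  rw [equiv₀_sectH0]
  let g : (U' : Scheme.{u}) ⟶ U := (𝟙 X : X ⟶ X).resLE U U' (by rwa [Scheme.Hom.id_preimage])
  let F' : (U : Scheme.{u}).Modules := F.restrict U.ι
  let G : X.Modules := (Scheme.Modules.pullback (𝟙 X)).obj F
  have hι : (⊤ : U.toScheme.Opens) ≤ U.ι ⁻¹ᵁ U := U.ι_preimage_self.ge
  have hι' : (⊤ : U'.toScheme.Opens) ≤ U'.ι ⁻¹ᵁ U' := U'.ι_preimage_self.ge
  have hU' : U' ≤ (𝟙 X : X ⟶ X) ⁻¹ᵁ U := by rwa [Scheme.Hom.id_preimage]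
  have e := Scheme.Hom.resLE_comp_ι (𝟙 X : X ⟶ X) hU'
  -- the value of `pullMod`
  let x₀ : Γ(F', ⊤) := mres F U.ι_image_top.le s
  let z₀ := pullS g F' ⊤ ⊤ le_rfl x₀
  have hx₀ : Sheaf.H.equiv₀ (Coh.toAb ((Scheme.Modules.pullback g).obj F'))
      (isTerminalTop : IsTerminal (⊤ : U'.toScheme.Opens)) (CohPull.pullMod g F' 0 (CohPull.sectH0 F U s)) = z₀ := by
    let w : Coh.HH U.toScheme F' 0 := CohPull.sectH0 F U s
    have hs : Sheaf.H.equiv₀ (Coh.toAb F') (isTerminalTop : IsTerminal (⊤ : U.toScheme.Opens)) w = x₀ :=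
      equiv₀_sectH0 F U s
    have hp := CohPull.equiv₀_pullMod g F' w
    rw [hs] at hp
    exact hp.trans (mres_refl ((Scheme.Modules.pullback g).obj F') (le_refl (⊤ : U'.toScheme.Opens)) _).symm
  -- step through `pullOnIso`
  have h1 : ((Scheme.Modules.pullback g).map ((restrictFunctorIsoPullback U.ι).hom.app F)).app ⊤ z₀ =
      pullS g ((Scheme.Modules.pullback U.ι).obj F) ⊤ ⊤ le_rfl (pullS U.ι F U ⊤ hι s) :=
    (pullS_map g _ ⊤ ⊤ le_rfl x₀).trans (congrArg _ (pullS_restrictIso U.ι F U ⊤ hι s))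
  have h2 : ((pullbackComp g U.ι).hom.app F).app ⊤
      (pullS g ((Scheme.Modules.pullback U.ι).obj F) ⊤ ⊤ le_rfl (pullS U.ι F U ⊤ hι s)) =
        pullS (g ≫ U.ι) F U ⊤ _ s := pullS_comp g U.ι F U ⊤ hι ⊤ le_rfl s
  have hle : (⊤ : U'.toScheme.Opens) ≤ (U'.ι ≫ 𝟙 X) ⁻¹ᵁ U := hι'.trans (U'.ι.preimage_mono hU')
  have h3 : ((pullbackCongr e).hom.app F).app ⊤
      (pullS (g ≫ U.ι) F U ⊤ (le_rfl.trans (g.preimage_mono hι)) s) =
      pullS (U'.ι ≫ 𝟙 X) F U ⊤ hle s := pullS_congr e F U ⊤ _ hle s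
  have h4 : ((pullbackComp U'.ι (𝟙 X)).inv.app F).app ⊤ (pullS (U'.ι ≫ 𝟙 X) F U ⊤ hle s) =
      pullS U'.ι G U' ⊤ hι' (pullS (𝟙 X) F U U' hU' s) := by
    rw [← pullS_comp U'.ι (𝟙 X) F U U' hU' ⊤ hι' s]
    exact ConcreteCategory.congr_hom (congrArg (fun t => Hom.app t ⊤)
      ((pullbackComp U'.ι (𝟙 X)).hom_inv_id_app F)) _
  have h5 : ((restrictFunctorIsoPullback U'.ι).inv.app G).app ⊤
      (pullS U'.ι G U' ⊤ hι' (pullS (𝟙 X) F U U' hU' s)) =
      mres G U'.ι_image_top.le (pullS (𝟙 X) F U U' hU' s) := by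
    rw [← pullS_restrictIso U'.ι G U' ⊤ hι' (pullS (𝟙 X) F U U' hU' s)]
    exact ConcreteCategory.congr_hom (congrArg (fun t => Hom.app t ⊤)
      ((restrictFunctorIsoPullback U'.ι).hom_inv_id_app G)) _
  let π : G ⟶ F := (pullbackId X).hom.app F
  let y₁ : Γ(G, U') := pullS (𝟙 X) F U U' hU' s
  have h6' : π.app (U'.ι ''ᵁ ⊤) (mres G U'.ι_image_top.le y₁) = mres F U'.ι_image_top.le (mres F h s) :=
    (app_mres' π U'.ι_image_top.le y₁).trans (congrArg (mres F U'.ι_image_top.le) (pullS_id F U U' h s))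
  have h6 : ((restrictFunctor U'.ι).map ((pullbackId X).hom.app F)).app ⊤
      (mres G U'.ι_image_top.le (pullS (𝟙 X) F U U' hU' s)) = mres F U'.ι_image_top.le (mres F h s) := h6'
  let w₀ := CohPull.pullMod g F' 0 (CohPull.sectH0 F U s)
  let φ₁ := (Scheme.Modules.pullback g).map ((restrictFunctorIsoPullback U.ι).hom.app F)
  let φ₂ := (pullbackComp g U.ι).hom.app F
  let φ₃ := (pullbackCongr e).hom.app F
  let φ₄ := (pullbackComp U'.ι (𝟙 X)).inv.app F
  let φ₅ := (restrictFunctorIsoPullback U'.ι).inv.app G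
  let φ₆ := (restrictFunctor U'.ι).map ((pullbackId X).hom.app F)
  have hiso : (CohPull.pullOnIso (𝟙 X) U U' hU' F).hom = φ₁ ≫ φ₂ ≫ φ₃ ≫ φ₄ ≫ φ₅ := by
    simp only [CohPull.pullOnIso, Iso.trans_hom]
    rfl
  have happ : (φ₁ ≫ φ₂ ≫ φ₃ ≫ φ₄ ≫ φ₅).app ⊤ z₀ = mres G U'.ι_image_top.le (pullS (𝟙 X) F U U' hU' s) := by
    simp only [Scheme.Modules.Hom.comp_app, ConcreteCategory.comp_apply]
    rw [h1, h2, h3, h4, h5]
  have hpo : CohPull.pullOn (𝟙 X) U U' hU' F 0 (CohPull.sectH0 F U s) =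
      CohPull.mapH (φ₁ ≫ φ₂ ≫ φ₃ ≫ φ₄ ≫ φ₅) 0 w₀ :=
    congrArg (fun t => CohPull.mapH t 0 w₀) hiso
  have hres : CohPull.resLE F h 0 (CohPull.sectH0 F U s) =
      CohPull.mapH φ₆ 0 (CohPull.mapH (φ₁ ≫ φ₂ ≫ φ₃ ≫ φ₄ ≫ φ₅) 0 w₀) :=
    congrArg (CohPull.mapH φ₆ 0) hpo
  rw [hres, equiv₀_mapH, equiv₀_mapH]
  refine Eq.trans ?_ h6
  refine congrArg _ ?_
  refine (congrArg _ hx₀).trans happ

end Groth.Agent.SectCmpLib
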